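import Mathlib

/-! Subgroups of `SL₂` over a commutative algebra generated by two one-parameter groups. -/

set_option autoImplicit false

namespace Cfsg.Agent.RootSub.SL2Gen

open Matrix

variable {R : Type*} [CommRing R]

local notation "SLR" => Matrix.SpecialLinearGroup (Fin 2) R

/-- Upper unitriangular element. -/
def uu (r : R) : SLR := ⟨!![1, r; 0, 1], by simp [Matrix.det_fin_two]⟩

/-- Lower unitriangular element. -/
def vv (r : R) : SLR := ⟨!![1, 0; r, 1], by simp [Matrix.det_fin_two]⟩

@[simp] theorem coe_uu (r : R) : ((uu r : SLR) : Matrix (Fin 2) (Fin 2) R) = !![1, r; 0, 1] := rfl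

@[simp] theorem coe_vv (r : R) : ((vv r : SLR) : Matrix (Fin 2) (Fin 2) R) = !![1, 0; r, 1] := rfl

theorem sl_ext {g h : SLR} (h00 : g 0 0 = h 0 0) (h01 : g 0 1 = h 0 1) (h10 : g 1 0 = h 1 0)
    (h11 : g 1 1 = h 1 1) : g = h := by
  ext i j; fin_cases i <;> fin_cases j <;> assumption

theorem det_eq (g : SLR) : g 0 0 * g 1 1 - g 0 1 * g 1 0 = 1 := by
  have := g.2
  rwa [Matrix.det_fin_two] at this

theorem uu_add (r s : R) : uu r * uu s = uu (r + s) := by
  apply sl_ext <;> simp [Matrix.mul_apply, Fin.sum_univ_two, add_comm]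

theorem vv_add (r s : R) : vv r * vv s = vv (r + s) := by
  apply sl_ext <;> simp [Matrix.mul_apply, Fin.sum_univ_two]

theorem uu_zero : uu (0 : R) = 1 := by apply sl_ext <;> simp

theorem vv_zero : vv (0 : R) = 1 := by apply sl_ext <;> simp

theorem uu_inv (r : R) : (uu r)⁻¹ = uu (-r) :=
  inv_eq_of_mul_eq_one_right (by rw [uu_add, add_neg_cancel, uu_zero])

theorem vv_inv (r : R) : (vv r)⁻¹ = vv (-r) :=
  inv_eq_of_mul_eq_one_right (by rw [vv_add, add_neg_cancel, vv_zero])

theorem conj_uu (g : SLR) (r : R) :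
    ((g * uu r * g⁻¹ : SLR) : Matrix (Fin 2) (Fin 2) R) =
      !![1 - r * (g 0 0 * g 1 0), r * (g 0 0 * g 0 0); -(r * (g 1 0 * g 1 0)),
        1 + r * (g 0 0 * g 1 0)] := by
  have hd := det_eq g
  simp only [Matrix.SpecialLinearGroup.coe_mul, Matrix.SpecialLinearGroup.coe_inv,
    Matrix.adjugate_fin_two, coe_uu]
  ext i j
  fin_cases i <;> fin_cases j <;> simp [Matrix.mul_apply, Fin.sum_univ_two]
  all_goals first
    | linear_combination hd
    | linear_combination (0 : R) * hd

/-- Conjugation of an upper unitriangular element by an upper triangular one. -/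
theorem conj_uu_of_upper (g : SLR) (r : R) (h : g 1 0 = 0) :
    g * uu r * g⁻¹ = uu (g 0 0 * g 0 0 * r) := by
  have := conj_uu g r
  apply sl_ext <;> simp [this, h, mul_comm]

/-- Elements commuting with `uu 1`. -/
theorem of_comm_uu_one (g : SLR) (h : g * uu 1 = uu 1 * g) : g 1 0 = 0 ∧ g 1 1 = g 0 0 := by
  have h00 := congrArg (fun x : SLR => x 0 0) h
  have h01 := congrArg (fun x : SLR => x 0 1) h
  simp [Matrix.mul_apply, Fin.sum_univ_two] at h00 h01
  exact ⟨h00, by linear_combination -h01⟩

/-- Elements commuting with `vv 1`. -/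
theorem of_comm_vv_one (g : SLR) (h : g * vv 1 = vv 1 * g) : g 0 1 = 0 ∧ g 1 1 = g 0 0 := by
  have h00 := congrArg (fun x : SLR => x 0 0) h
  have h10 := congrArg (fun x : SLR => x 1 0) h
  simp [Matrix.mul_apply, Fin.sum_univ_two] at h00 h10
  exact ⟨h00, by linear_combination h10⟩

variable (k : Type*) [Field k] [Algebra k R]

/-- The group generated by `uu k` and `vv (k α)`. -/
def gam (α : R) : Subgroup SLR :=
  Subgroup.closure (Set.range (fun c : k => uu (algebraMap k R c)) ∪
    Set.range (fun c : k => vv (algebraMap k R c * α)))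

theorem uu_mem_gam (α : R) (c : k) : uu (algebraMap k R c) ∈ gam k α :=
  Subgroup.subset_closure (Or.inl ⟨c, rfl⟩)

theorem vv_mem_gam (α : R) (c : k) : vv (algebraMap k R c * α) ∈ gam k α :=
  Subgroup.subset_closure (Or.inr ⟨c, rfl⟩)

theorem map_uu {S : Type*} [CommRing S] (f : R →+* S) (r : R) :
    Matrix.SpecialLinearGroup.map f (uu r) = uu (f r) := by
  apply sl_ext <;> simp

theorem map_vv {S : Type*} [CommRing S] (f : R →+* S) (r : R) :
    Matrix.SpecialLinearGroup.map f (vv r) = vv (f r) := by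
  apply sl_ext <;> simp

theorem map_gam {S : Type*} [CommRing S] [Algebra k S] (f : R →ₐ[k] S) (α : R) :
    (gam k α).map (Matrix.SpecialLinearGroup.map (f : R →+* S)) = gam k (f α) := by
  rw [gam, gam, MonoidHom.map_closure, Set.image_union, ← Set.range_comp, ← Set.range_comp]
  congr 2 <;> (congr 1; funext c; simp [map_uu, map_vv])

variable {k}

/-- The parameters of the upper unitriangular elements of a subgroup. -/
def upperSet (H : Subgroup SLR) : AddSubgroup R where
  carrier := {r | uu r ∈ H}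
  zero_mem' := by show uu 0 ∈ H; rw [uu_zero]; exact one_mem H
  add_mem' := fun {a b} ha hb => by show uu (a + b) ∈ H; rw [← uu_add]; exact mul_mem ha hb
  neg_mem' := fun {a} ha => by show uu (-a) ∈ H; rw [← uu_inv]; exact inv_mem ha

theorem mem_upperSet {H : Subgroup SLR} {r : R} : r ∈ upperSet H ↔ uu r ∈ H := Iff.rfl

theorem sq_mul_mem_upperSet {H : Subgroup SLR} {g : SLR} (hg : g ∈ H) (h : g 1 0 = 0) {r : R}
    (hr : r ∈ upperSet H) : g 0 0 * g 0 0 * r ∈ upperSet H := by
  rw [mem_upperSet, ← conj_uu_of_upper g r h]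
  exact mul_mem (mul_mem hg hr) (inv_mem hg)

/-- With all upper parameters one also gets all lower ones. -/
theorem vv_mem_of_upperSet {α : R} (hα : IsUnit α) (h : upperSet (gam k α) = ⊤) (r : R) :
    vv r ∈ gam k α := by
  obtain ⟨a, rfl⟩ := hα
  have hu : ∀ x : R, uu x ∈ gam k (a : R) := fun x => by
    rw [← mem_upperSet, h]; exact AddSubgroup.mem_top x
  set i : R := ((a⁻¹ : Rˣ) : R)
  have hai : (a : R) * i = 1 := a.mul_inv
  let w : SLR := uu (-i) * vv (algebraMap k R 1 * (a : R)) * uu (-i)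
  have hw : w ∈ gam k (a : R) :=
    mul_mem (mul_mem (hu _) (vv_mem_gam k _ 1)) (hu _)
  have h1 := mul_mem (mul_mem hw (hu (-(r * i * i)))) (inv_mem hw)
  convert h1 using 1
  have h2 := conj_uu w (-(r * i * i))
  have w00 : w 0 0 = 0 := by
    simp [w, Matrix.mul_apply, Fin.sum_univ_two]
    linear_combination -hai
  have w10 : w 1 0 = (a : R) := by
    simp [w, Matrix.mul_apply, Fin.sum_univ_two]
  apply sl_ext <;> simp [h2, w00, w10]
  linear_combination (-(r * ((a : R) * i + 1))) * hai

/-- Over a field the elementary elements generate. -/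
theorem eq_top_of_all {F : Type*} [Field F] {H : Subgroup (Matrix.SpecialLinearGroup (Fin 2) F)}
    (hu : ∀ x, uu x ∈ H) (hv : ∀ x, vv x ∈ H) : H = ⊤ := by
  have main : ∀ g : Matrix.SpecialLinearGroup (Fin 2) F, g 1 0 ≠ 0 → g ∈ H := by
    intro g hg
    have hd := det_eq g
    have : g = uu ((g 0 0 - 1) / g 1 0) * vv (g 1 0) * uu ((g 1 1 - 1) / g 1 0) := by
      apply sl_ext <;> simp [Matrix.mul_apply, Fin.sum_univ_two]
      · field_simp; ring
      · field_simp; linear_combination -hd
      · field_simp; ring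
    rw [this]
    exact mul_mem (mul_mem (hu _) (hv _)) (hu _)
  rw [eq_top_iff]
  rintro g -
  by_cases hg : g 1 0 = 0
  · have h11 : g 1 1 ≠ 0 := fun h => by
      have := det_eq g
      rw [hg, h] at this
      simp at this
    have h1 := main (g * vv 1) (by simp [Matrix.mul_apply, Fin.sum_univ_two, hg, h11])
    have := mul_mem h1 (inv_mem (hv 1))
    rwa [mul_assoc, mul_inv_cancel, mul_one] at this
  · exact main g hg

end Cfsg.Agent.RootSub.SL2Gen
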